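import Mathlib

/-! Two ring-theoretic lemmas on groups acting on a finite abelian group. -/

set_option autoImplicit false
set_option linter.style.haveILetI false
set_option linter.deprecated false

namespace CfsgLib.RealCl

open Subgroup

variable {H : Type*} [Group H] {W : Type*} [AddCommGroup W]

/-- An abelian group acting without fixed points of non-identity elements is cyclic. -/
theorem isCyclic_of_fpf [Finite W] (ρ : H →* Module.End ℤ W) (hW : ∃ v : W, v ≠ 0)
    (A : Subgroup H) [Finite A] (hc : ∀ x ∈ A, ∀ y ∈ A, x * y = y * x)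
    (hf : ∀ x ∈ A, x ≠ 1 → ∀ v, ρ x v = v → v = 0) : IsCyclic A := by
  classical
  let S : Set (Module.End ℤ W) := ρ '' (A : Set H)
  have hS : ∀ a ∈ S, ∀ b ∈ S, a * b = b * a := by
    rintro _ ⟨x, hx, rfl⟩ _ ⟨y, hy, rfl⟩
    rw [← map_mul, hc x hx y hy, map_mul]
  let R := Subring.closure S
  letI : CommRing R := Subring.closureCommRingOfComm hS
  haveI : Finite (Module.End ℤ W) := Finite.of_injective _ DFunLike.coe_injective
  haveI : Nontrivial R := by
    obtain ⟨v, hv⟩ := hW
    refine ⟨⟨0, 1, fun h => hv ?_⟩⟩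
    have h1 : ((0 : R) : Module.End ℤ W) v = ((1 : R) : Module.End ℤ W) v := by rw [h]
    simpa using h1.symm
  obtain ⟨m, hm⟩ := Ideal.exists_maximal R
  let f : A →* R :=
    { toFun := fun x => ⟨ρ x, Subring.subset_closure ⟨x, x.2, rfl⟩⟩
      map_one' := Subtype.ext (by simp)
      map_mul' := fun x y => Subtype.ext (by simp) }
  haveI := hm.isPrime
  refine isCyclic_of_injective_ringHom ((Ideal.Quotient.mk m).toMonoidHom.comp f) ?_
  rw [injective_iff_map_eq_one]
  intro x hx
  by_contra hx1
  have hmem : f x - 1 ∈ m := by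
    rw [← Ideal.Quotient.eq_zero_iff_mem, map_sub, map_one, sub_eq_zero]
    exact hx
  have hinj : Function.Injective (fun r : R => (f x - 1) * r) := by
    intro r s hrs
    have h0 : (f x - 1) * (r - s) = 0 := by
      rw [mul_sub]; exact sub_eq_zero.2 hrs
    apply Subtype.ext
    ext v
    have h1 : ((((f x - 1) * (r - s) : R) : Module.End ℤ W)) v = 0 := by rw [h0]; simp
    have h2 : ρ x ((r : Module.End ℤ W) v - (s : Module.End ℤ W) v)
        = (r : Module.End ℤ W) v - (s : Module.End ℤ W) v := by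
      have h3 : ρ x ((r : Module.End ℤ W) v - (s : Module.End ℤ W) v)
          - ((r : Module.End ℤ W) v - (s : Module.End ℤ W) v) = 0 := h1
      exact sub_eq_zero.1 h3
    exact sub_eq_zero.1 (hf x x.2 (fun h => hx1 (Subtype.ext h)) _ h2)
  obtain ⟨r, hr⟩ := Finite.injective_iff_surjective.1 hinj 1
  exact hm.ne_top (Ideal.eq_top_of_isUnit_mem m hmem (IsUnit.of_mul_eq_one r hr))

/-- If every non-zero polynomial expression in `ρ x` is injective, two elements normalising `⟨x⟩`
whose squares centralise `x` and that move `ρ x` act in the same way on `ρ x`. -/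
theorem conj_eq_of_irred [Finite W] (ρ : H →* Module.End ℤ W) (hW : ∃ v : W, v ≠ 0)
    (h2 : ∀ v : W, v + v = 0) (x : H)
    (hirr : ∀ S : AddSubgroup W, (∀ g, Commute g x → ∀ v ∈ S, ρ g v ∈ S) → S = ⊥ ∨ S = ⊤)
    {a c : H} (ha : a * a = 1) (hc : c * c = 1) (hax : a * x * a⁻¹ ∈ zpowers x)
    (hcx : c * x * c⁻¹ ∈ zpowers x) [Finite H] (ha1 : ρ (a * x * a⁻¹) ≠ ρ x)
    (hc1 : ρ (c * x * c⁻¹) ≠ ρ x) : ρ (a * x * a⁻¹) = ρ (c * x * c⁻¹) := by
  classical
  let S : Set (Module.End ℤ W) := {ρ x}
  have hS : ∀ a ∈ S, ∀ b ∈ S, a * b = b * a := by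
    rintro _ rfl _ rfl; rfl
  let R := Subring.closure S
  letI : CommRing R := Subring.closureCommRingOfComm hS
  haveI : Finite (Module.End ℤ W) := Finite.of_injective _ DFunLike.coe_injective
  haveI : Nontrivial R := by
    obtain ⟨v, hv⟩ := hW
    refine ⟨⟨0, 1, fun h => hv ?_⟩⟩
    have h1 : ((0 : R) : Module.End ℤ W) v = ((1 : R) : Module.End ℤ W) v := by rw [h]
    simpa using h1.symm
  have hcomm : ∀ g, Commute g x → ∀ r ∈ R, ρ g * r = r * ρ g := by
    intro g hg r hr
    induction hr using Subring.closure_induction with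
    | mem y hy => rcases hy with rfl; rw [← map_mul, hg.eq, map_mul]
    | zero => simp
    | one => simp
    | add y z _ _ h1 h2 => rw [mul_add, add_mul, h1, h2]
    | neg y _ h1 => rw [mul_neg, neg_mul, h1]
    | mul y z _ _ h1 h2 => rw [← mul_assoc, h1, mul_assoc, h2, mul_assoc]
  haveI : NoZeroDivisors R := ⟨fun {r s} hrs => by
    rcases hirr (LinearMap.ker (r : Module.End ℤ W)).toAddSubgroup (fun g hg v hv => by
      have h1 : (r : Module.End ℤ W) v = 0 := hv
      have h3 : ((r : Module.End ℤ W) * ρ g) v = 0 := by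
        rw [← hcomm g hg r r.2]
        change ρ g ((r : Module.End ℤ W) v) = 0
        rw [h1, map_zero]
      exact h3) with h | h
    · right
      apply Subtype.ext
      ext v
      have h1 : (((r * s : R) : Module.End ℤ W)) v = 0 := by rw [hrs]; simp
      have h3 : (s : Module.End ℤ W) v ∈ (LinearMap.ker (r : Module.End ℤ W)).toAddSubgroup := h1
      rw [h] at h3
      simpa using h3
    · left
      apply Subtype.ext
      ext v
      have h3 : v ∈ (LinearMap.ker (r : Module.End ℤ W)).toAddSubgroup := by rw [h]; trivial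
      simpa using h3⟩
  haveI : IsDomain R := NoZeroDivisors.to_isDomain R
  letI : Field R := Finite.isField_of_domain R |>.toField
  have htwo : (2 : R) = 0 := by
    apply Subtype.ext
    ext v
    have : ((2 : R) : Module.End ℤ W) = 1 + 1 := by
      rw [← one_add_one_eq_two]; rfl
    rw [this]
    simpa using h2 v
  haveI : CharP R 2 := CharTwo.of_one_ne_zero_of_two_eq_zero one_ne_zero htwo
  letI : Algebra (ZMod 2) R := ZMod.algebra R 2
  have hxR : ρ x ∈ R := Subring.subset_closure rfl
  have hzR : ∀ y ∈ zpowers x, ρ y ∈ R := by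
    intro y hy
    rw [← mem_powers_iff_mem_zpowers] at hy
    obtain ⟨n, rfl⟩ := hy
    rw [map_pow]; exact pow_mem hxR n
  have mk : ∀ a : H, a * a = 1 → a * x * a⁻¹ ∈ zpowers x →
      ∃ σ : R ≃ₐ[ZMod 2] R, σ * σ = 1 ∧ (σ ⟨ρ x, hxR⟩ : Module.End ℤ W) = ρ (a * x * a⁻¹) := by
    intro a ha hax
    have haa : ρ a * ρ a = 1 := by rw [← map_mul, ha, map_one]
    have hmem : ∀ r ∈ R, ρ a * r * ρ a ∈ R := by
      intro r hr
      induction hr using Subring.closure_induction with
      | mem y hy =>
        rcases hy with rfl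
        have := hzR _ hax
        rwa [inv_eq_of_mul_eq_one_right ha, map_mul, map_mul] at this
      | zero => simp
      | one => rw [mul_one, haa]; exact one_mem R
      | add y z _ _ h1 h2 => rw [mul_add, add_mul]; exact add_mem h1 h2
      | neg y _ h1 => rw [mul_neg, neg_mul]; exact neg_mem h1
      | mul y z _ _ h1 h2 =>
        have : ρ a * (y * z) * ρ a = (ρ a * y * ρ a) * (ρ a * z * ρ a) := by
          calc ρ a * (y * z) * ρ a = ρ a * y * (ρ a * ρ a) * z * ρ a := by
                rw [haa]; simp only [mul_assoc, mul_one]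
            _ = _ := by simp only [mul_assoc]
        rw [this]; exact mul_mem h1 h2
    have hinv : ∀ r : Module.End ℤ W, ρ a * (ρ a * r * ρ a) * ρ a = r := by
      intro r
      calc ρ a * (ρ a * r * ρ a) * ρ a = (ρ a * ρ a) * r * (ρ a * ρ a) := by
            simp only [mul_assoc]
        _ = r := by rw [haa, one_mul, mul_one]
    let e : R ≃+* R :=
      { toFun := fun r => ⟨ρ a * r * ρ a, hmem r r.2⟩
        invFun := fun r => ⟨ρ a * r * ρ a, hmem r r.2⟩
        left_inv := fun r => Subtype.ext (hinv r)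
        right_inv := fun r => Subtype.ext (hinv r)
        map_mul' := fun r s => Subtype.ext (by
          change ρ a * ((r : Module.End ℤ W) * s) * ρ a = (ρ a * r * ρ a) * (ρ a * s * ρ a)
          calc ρ a * ((r : Module.End ℤ W) * s) * ρ a = ρ a * r * (ρ a * ρ a) * s * ρ a := by
                rw [haa]; simp only [mul_assoc, mul_one]
            _ = _ := by simp only [mul_assoc])
        map_add' := fun r s => Subtype.ext (by
          change ρ a * ((r : Module.End ℤ W) + s) * ρ a = (ρ a * r * ρ a) + (ρ a * s * ρ a)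
          rw [mul_add, add_mul]) }
    let σ : R ≃ₐ[ZMod 2] R := AlgEquiv.ofRingEquiv (f := e) (fun t => by
      have := RingHom.ext_zmod ((e : R →+* R).comp (algebraMap (ZMod 2) R)) (algebraMap (ZMod 2) R)
      exact DFunLike.congr_fun this t)
    refine ⟨σ, ?_, ?_⟩
    · ext r
      exact DFunLike.congr_fun (hinv r) _
    · change ρ a * ρ x * ρ a = _
      rw [inv_eq_of_mul_eq_one_right ha, map_mul, map_mul]
  obtain ⟨σ, hσ, hσx⟩ := mk a ha hax
  obtain ⟨τ, hτ, hτx⟩ := mk c hc hcx
  have hσ1 : σ ≠ 1 := fun h => ha1 (by rw [← hσx, h]; rfl)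
  have hτ1 : τ ≠ 1 := fun h => hc1 (by rw [← hτx, h]; rfl)
  have hst : σ = τ := by
    by_contra hne
    haveI : Fintype (R ≃ₐ[ZMod 2] R) := Fintype.ofFinite _
    have h1 := IsCyclic.card_pow_eq_one_le (α := R ≃ₐ[ZMod 2] R) (n := 2) two_pos
    have h3 : ({1, σ, τ} : Finset (R ≃ₐ[ZMod 2] R)) ⊆ Finset.univ.filter (fun a => a ^ 2 = 1) := by
      intro y hy
      simp only [Finset.mem_insert, Finset.mem_singleton] at hy
      rcases hy with rfl | rfl | rfl <;> simp [sq, hσ, hτ]
    have h4 := Finset.card_le_card h3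
    rw [Finset.card_eq_three.2 ⟨1, σ, τ, hσ1.symm, hτ1.symm, hne, rfl⟩] at h4
    omega
  rw [← hσx, ← hτx, hst]

end CfsgLib.RealCl
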