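import Cfsg.Agent.Lib.RealCl.LinD
import Cfsg.Agent.Lib.Fgs.OrbitSum
import Cfsg.Agent.S3861
import Cfsg.Agent.S3863

/-! Groups whose real class size graph is disconnected: first reductions. -/

set_option autoImplicit false
set_option linter.style.haveILetI false
set_option linter.unusedSectionVars false
set_option linter.unusedVariables false

namespace CfsgLib.RealCl

open Subgroup Cfsg CfsgLib.Invol CfsgLib.Fgs

variable {G : Type*} [Group G]

/-- Class size. -/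
noncomputable abbrev cs (x : G) : ℕ := (centralizer ({x} : Set G)).index

theorem card_dvd_of_closed [Finite G] (Z : Subgroup G) (B : Set G)
    (h : ∀ b ∈ B, ∀ z ∈ Z, b * z ∈ B) : Nat.card Z ∣ B.ncard := by
  have e : B = (QuotientGroup.mk : G → G ⧸ Z) ⁻¹' ((QuotientGroup.mk : G → G ⧸ Z) '' B) := by
    ext x
    refine ⟨fun hx => ⟨x, hx, rfl⟩, ?_⟩
    rintro ⟨b, hb, e⟩
    have := h b hb _ (QuotientGroup.eq.1 e)
    simpa using this
  rw [e, ← Nat.card_coe_set_eq, QuotientGroup.card_preimage_mk]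
  exact dvd_mul_right _ _

theorem orderOf_dvd_cs [Finite G] {b w : G} (h : ∀ b', IsConj b b' → IsConj b (b' * w)) :
    orderOf w ∣ cs b := by
  rw [cs, ← ncard_isConj_eq_index, ← Nat.card_zpowers]
  refine card_dvd_of_closed _ _ (fun b' hb' z hz => ?_)
  rw [← mem_powers_iff_mem_zpowers] at hz
  obtain ⟨n, rfl⟩ := hz
  induction n with
  | zero => simpa using hb'
  | succ n ih =>
    simp only at ih ⊢
    rw [pow_succ, ← mul_assoc]
    exact h _ ih

theorem trans_of_coprime [Finite G] {x y : G} (h : (cs x).Coprime (cs y)) (g : G) :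
    ∃ c, Commute c x ∧ c * y * c⁻¹ = g * y * g⁻¹ := by
  obtain ⟨c, hc, d, hd, rfl⟩ := exists_mul_of_coprime_index h.symm g
  refine ⟨c, mem_centralizer_singleton_iff.1 hc, ?_⟩
  have := mem_centralizer_singleton_iff.1 hd
  calc c * y * c⁻¹ = c * (d * y * d⁻¹) * c⁻¹ := by rw [this]; group
    _ = _ := by group

theorem isConj_mul [Finite G] {x y x' y' : G} (h : (cs x).Coprime (cs y)) (hx : IsConj x x')
    (hy : IsConj y y') : IsConj (x * y) (x' * y') := by
  obtain ⟨g, rfl⟩ := isConj_iff.1 hx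
  obtain ⟨k, rfl⟩ := isConj_iff.1 hy
  obtain ⟨c, hc, e⟩ := trans_of_coprime h (g⁻¹ * k)
  refine isConj_iff.2 ⟨g * c, ?_⟩
  calc g * c * (x * y) * (g * c)⁻¹ = g * (c * x * c⁻¹) * (c * y * c⁻¹) * g⁻¹ := by group
    _ = _ := by rw [e, hc.eq]; group

theorem cs_le_of_mul [Finite G] {d b e : G} (h : ∀ d', IsConj d d' → IsConj b (d' * e)) :
    cs d ≤ cs b := by
  rw [cs, cs, ← ncard_isConj_eq_index, ← ncard_isConj_eq_index]
  exact Set.ncard_le_ncard_of_injOn (fun x => x * e) h (fun _ _ _ _ e => mul_right_cancel e)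

theorem closed_of_le [Finite G] {b c c' b' : G} (h : (cs b).Coprime (cs c))
    (hle : cs (b * c) ≤ cs b) (hc : IsConj c c') (hb : IsConj b b') :
    IsConj b (b' * (c * c'⁻¹)) := by
  have h1 : (fun x => x * c') '' {y | IsConj b y} = {y | IsConj (b * c) y} := by
    apply Set.eq_of_subset_of_ncard_le
    · rintro _ ⟨y, hy, rfl⟩
      exact isConj_mul h hy hc
    · rw [Set.ncard_image_of_injective _ (mul_left_injective c'), ncard_isConj_eq_index,
        ncard_isConj_eq_index]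
      exact hle
    · exact Set.toFinite _
  have h2 : b' * c ∈ {y | IsConj (b * c) y} := isConj_mul h hb (IsConj.refl c)
  rw [← h1] at h2
  obtain ⟨y, hy, e⟩ := h2
  simp only at e
  rw [← mul_assoc, ← e, mul_inv_cancel_right]
  exact hy

theorem exists_conj_ne [Finite G] {c : G} (h : 1 < cs c) : ∃ c', IsConj c c' ∧ c' ≠ c := by
  by_contra hn
  push Not at hn
  have : cs c = 1 := index_cent_eq_one_iff.2 (mem_center_iff.2 (fun g => by
    have := hn _ (isConj_iff.2 ⟨g, rfl⟩)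
    exact mul_inv_eq_iff_eq_mul.1 this))
  omega

theorem mul_self_conj {x y : G} (h : IsConj x y) (hx : x * x = 1) : y * y = 1 := by
  obtain ⟨g, rfl⟩ := isConj_iff.1 h
  calc _ = g * (x * x) * g⁻¹ := by group
    _ = 1 := by rw [hx]; simp

theorem solvable_of_normal_sylow [Finite G] (P : Sylow 2 G) [hP : (P : Subgroup G).Normal] :
    Group.IsSolvable G := by
  haveI : Fact (Nat.Prime 2) := ⟨Nat.prime_two⟩
  haveI := P.isPGroup'.isNilpotent
  haveI : Group.IsSolvable (G ⧸ (P : Subgroup G)) := CfsgLib.FT.odd_order_solvable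
    (Nat.odd_iff.2 (Nat.two_dvd_ne_zero.1 P.not_dvd_index))
  exact Group.isSolvable_of_ker_le_range (P : Subgroup G).subtype (QuotientGroup.mk' (P : Subgroup G)) (by simp)

/-- The real class size graph is disconnected. -/
structure Disc (G : Type*) [Group G] (π₁ π₂ : Set ℕ) : Prop where
  cover : ∀ x : G, IsConj x x⁻¹ → ∀ q : ℕ, q.Prime → q ∣ cs x → q ∈ π₁ ∨ q ∈ π₂
  disj : Disjoint π₁ π₂
  noedge : ∀ x : G, IsConj x x⁻¹ → ∀ a ∈ π₁, ∀ b ∈ π₂, ¬ (a ∣ cs x ∧ b ∣ cs x)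
  ex1 : ∃ x : G, IsConj x x⁻¹ ∧ ∃ q ∈ π₁, q.Prime ∧ q ∣ cs x
  ex2 : ∃ x : G, IsConj x x⁻¹ ∧ ∃ q ∈ π₂, q.Prime ∧ q ∣ cs x

/-- Real elements whose class size is a `π`-number. -/
def Ty (π : Set ℕ) (x : G) : Prop := IsConj x x⁻¹ ∧ ∀ q : ℕ, q.Prime → q ∣ cs x → q ∈ π

namespace Disc

variable [Finite G] {π₁ π₂ : Set ℕ} (h : Disc G π₁ π₂)
include h

theorem symm : Disc G π₂ π₁ :=
  ⟨fun x hx q hq hd => (h.cover x hx q hq hd).symm, h.disj.symm,
    fun x hx a ha b hb e => h.noedge x hx b hb a ha e.symm, h.ex2, h.ex1⟩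

theorem ty_of_dvd {x : G} (hx : IsConj x x⁻¹) {q : ℕ} (hq : q ∈ π₁) (hd : q ∣ cs x) : Ty π₁ x :=
  ⟨hx, fun r hr hrd => (h.cover x hx r hr hrd).resolve_right
    (fun h2 => h.noedge x hx q hq r h2 ⟨hd, hrd⟩)⟩

theorem dich {x : G} (hx : IsConj x x⁻¹) : Ty π₁ x ∨ Ty π₂ x := by
  by_cases h1 : ∃ q ∈ π₁, q ∣ cs x
  · obtain ⟨q, hq, hd⟩ := h1
    exact Or.inl (h.ty_of_dvd hx hq hd)
  · exact Or.inr ⟨hx, fun r hr hrd => (h.cover x hx r hr hrd).resolve_left
      (fun h2 => h1 ⟨r, h2, hrd⟩)⟩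

theorem cop {x y : G} (hx : Ty π₁ x) (hy : Ty π₂ y) : (cs x).Coprime (cs y) :=
  Nat.coprime_of_dvd (fun k hk h1 h2 =>
    Set.disjoint_left.1 h.disj (hx.2 k hk h1) (hy.2 k hk h2))

theorem step0_aux (hodd : ∀ x : G, IsConj x x⁻¹ → Odd (cs x)) {b : G} (hb : Ty π₁ b)
    (hmax : ∀ x : G, IsConj x x⁻¹ → cs x ≤ cs b) : False := by
  obtain ⟨c, hc, q, hq, hqp, hqd⟩ := h.ex2
  have hc2 := h.symm.ty_of_dvd hc hq hqd
  have sq : ∀ x : G, IsConj x x⁻¹ → x * x = 1 := fun x hx => by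
    rw [← pow_two]; exact (Cfsg.Agent.S3863.result x hx).2.1 (hodd x hx)
  have hc1 : 1 < cs c := lt_of_lt_of_le hqp.one_lt (Nat.le_of_dvd (hodd c hc).pos hqd)
  obtain ⟨c', hcc', hne⟩ := exists_conj_ne hc1
  have hc' := mul_self_conj hcc' (sq c hc)
  have hreal : IsConj (b * c) (b * c)⁻¹ := isConj_iff.2 ⟨b, conj_mul_eq_inv (sq b hb.1) (sq c hc)⟩
  have h1 := orderOf_dvd_cs (w := c * c'⁻¹)
    (fun b' hb' => closed_of_le (h.cop hb hc2) (hmax _ hreal) hcc' hb')
  rw [inv_eq_of_mul_eq_one_right hc'] at h1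
  have h2 : orderOf (c * c') = 2 := orderOf_eq_two (fun e => hne (by
      rw [← inv_eq_of_mul_eq_one_right e, inv_eq_of_mul_eq_one_right (sq c hc)]))
    (sq _ (isConj_iff.2 ⟨c, conj_mul_eq_inv (sq c hc) hc'⟩))
  rw [h2] at h1
  exact (Nat.not_even_iff_odd.2 (hodd b hb.1)) (even_iff_two_dvd.2 h1)

theorem exists_even : ∃ x : G, IsConj x x⁻¹ ∧ 2 ∣ cs x := by
  by_contra hn
  have hodd : ∀ x : G, IsConj x x⁻¹ → Odd (cs x) := fun x hx =>
    Nat.odd_iff.2 (Nat.two_dvd_ne_zero.1 (fun e => hn ⟨x, hx, e⟩))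
  obtain ⟨b, hb, hmax⟩ := Set.exists_max_image {x : G | IsConj x x⁻¹} cs (Set.toFinite _)
    ⟨1, by simp⟩
  rcases h.dich hb with h1 | h1
  · exact h.step0_aux hodd h1 hmax
  · exact h.symm.step0_aux hodd h1 hmax

end Disc

/-- Involutions of the second type. -/
def Good (π : Set ℕ) (i : G) : Prop := Ty π i ∧ 1 < cs i

theorem Ty.conj {π : Set ℕ} {x y : G} (h : Ty π x) (e : IsConj x y) : Ty π y := by
  refine ⟨?_, fun q hq hd => h.2 q hq (by rwa [cs, index_cent_of_isConj e])⟩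
  obtain ⟨g, rfl⟩ := isConj_iff.1 e
  refine (e.symm.trans h.1).trans (isConj_iff.2 ⟨g, ?_⟩)
  group

theorem Good.conj {π : Set ℕ} {x y : G} (h : Good π x) (e : IsConj x y) : Good π y :=
  ⟨h.1.conj e, by rw [cs, ← index_cent_of_isConj e]; exact h.2⟩

theorem RO.two_dvd {y : G} (hy : RO y) : 2 ∣ cs y := by
  rw [cs, index_centralizer_eq_two_mul (sq_ne_one_of_odd hy.1 hy.2.1) hy.2.2]
  exact dvd_mul_right _ _

namespace Disc

variable [Finite G] {π₁ π₂ : Set ℕ} (h : Disc G π₁ π₂) (h2 : 2 ∈ π₁)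
include h h2

theorem exists_good : ∃ i : G, Good π₂ i := by
  obtain ⟨c, hc, q, hq, hqp, hqd⟩ := h.ex2
  exact ⟨c, h.symm.ty_of_dvd hc hq hqd, lt_of_lt_of_le hqp.one_lt
    (Nat.le_of_dvd (Nat.pos_of_ne_zero index_ne_zero_of_finite) hqd)⟩

theorem odd_of_ty {i : G} (hi : Ty π₂ i) : Odd (cs i) :=
  Nat.odd_iff.2 (Nat.two_dvd_ne_zero.1 (fun e =>
    Set.disjoint_left.1 h.disj h2 (hi.2 2 Nat.prime_two e)))

theorem sq {i : G} (hi : Good π₂ i) : i * i = 1 := by
  rw [← pow_two]; exact (Cfsg.Agent.S3863.result i hi.1.1).2.1 (h.odd_of_ty h2 hi.1)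

theorem ty_ro {y : G} (hy : RO y) : Ty π₁ y := h.ty_of_dvd hy.2.2 h2 hy.two_dvd

theorem not_both {x i : G} (hx : IsConj x x⁻¹) (hi : Good π₂ i) (h1 : 2 ∣ cs x)
    (h3 : cs i ∣ cs x) : False := by
  obtain ⟨q, hq, hd⟩ := Nat.exists_prime_and_dvd (ne_of_gt hi.2)
  exact h.noedge x hx 2 h2 q (hi.1.2 q hq hd) ⟨h1, hd.trans h3⟩

theorem exists_P {i : G} (hi : Good π₂ i) : ∃ P : Sylow 2 G, (P : Subgroup G) ≤ centralizer {i} :=
  exists_sylow_le_of_not_dvd_index (Nat.two_dvd_ne_zero.2 (Nat.odd_iff.1 (h.odd_of_ty h2 hi.1)))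

theorem not_comm {i y : G} (hi : Good π₂ i) (hy : RO y) : ¬ Commute y i := by
  intro hc
  obtain ⟨g, ⟨j, hj⟩, hg⟩ := (Cfsg.Agent.S3863.result y hy.2.2).1
  obtain ⟨P, hP⟩ := h.exists_P h2 hi
  obtain ⟨k, hk⟩ := T2.exists_conj (t := g) ⟨j, by rw [← hj, pow_orderOf_eq_one]⟩ P
  have h1 : Commute (k * g * k⁻¹) i := mem_centralizer_singleton_iff.1 (hP hk)
  set i' := k⁻¹ * i * k⁻¹⁻¹ with hi'
  have hii : IsConj i i' := isConj_iff.2 ⟨k⁻¹, rfl⟩
  have hgi : Commute g i' := by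
    calc g * i' = k⁻¹ * ((k * g * k⁻¹) * i) * k := by rw [hi']; group
      _ = i' * g := by rw [h1.eq, hi']; group
  have hyi : Commute y i' := by
    obtain ⟨c, hcy, e⟩ := trans_of_coprime (h.cop (h.ty_ro h2 hy) hi.1) k⁻¹
    rw [hi', ← e]
    exact (hcy.symm.mul_right hc).mul_right hcy.symm.inv_right
  have hi2 := h.sq h2 (hi.conj hii)
  have hreal : IsConj (i' * y) (i' * y)⁻¹ := isConj_iff.2 ⟨g, by
    calc g * (i' * y) * g⁻¹ = (g * i') * g⁻¹ * (g * y * g⁻¹) := by group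
      _ = i' * y⁻¹ := by rw [hgi.eq, hg]; group
      _ = _ := by rw [mul_inv_rev, inv_eq_of_mul_eq_one_right hi2, hyi.inv_left.eq]⟩
  have hcop : (orderOf i').Coprime (orderOf y) :=
    Nat.Coprime.coprime_dvd_left (orderOf_dvd_of_pow_eq_one (by rw [pow_two, hi2]))
      (Nat.coprime_two_left.2 hy.2.1)
  have e := cent_mul_of_coprime hyi.symm hcop
  refine h.not_both h2 hreal (hi.conj hii) (hy.two_dvd.trans ?_) ?_
  · rw [cs, cs, e]; exact index_dvd_of_le inf_le_right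
  · rw [cs, cs, e]; exact index_dvd_of_le inf_le_left

theorem exists_PN {i : G} (hi : Good π₂ i) : ∃ P : Sylow 2 G, (P : Subgroup G) ≤ centralizer {i} ∧
    centralizer {i} ≤ normalizer ((P : Subgroup G) : Set G) := by
  obtain ⟨P, hP⟩ := h.exists_P h2 hi
  refine ⟨P, hP, ?_⟩
  have hn := (Cfsg.Agent.S3861.result (P.subtype hP)).1 (fun x hx1 hxo hx =>
    h.not_comm h2 hi (y := x) ⟨fun e => hx1 (Subtype.ext e), by rwa [Subgroup.orderOf_coe],
      by simpa using (centralizer {i}).subtype.map_isConj hx⟩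
      (mem_centralizer_singleton_iff.1 x.2))
  exact (normal_subgroupOf_iff_le_normalizer hP).1 hn

theorem solvable_cent {i : G} (hi : Good π₂ i) : Group.IsSolvable (centralizer ({i} : Set G)) := by
  obtain ⟨P, hP, hN⟩ := h.exists_PN h2 hi
  haveI : ((P.subtype hP : Sylow 2 (centralizer ({i} : Set G))) :
    Subgroup (centralizer ({i} : Set G))).Normal := (normal_subgroupOf_iff_le_normalizer hP).2 hN
  exact solvable_of_normal_sylow (P.subtype hP)

/-- The case `i ∉ O₂(G)`. -/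
theorem caseA {i : G} (hi : Good π₂ i) (hn : i ∉ pCore 2 G) :
    Group.IsSolvable G ∧ ∀ p : ℕ, p.Prime → p ≠ 2 → p ∣ Nat.card (closure {t : G | T2 t}) →
      p ∈ π₂ := by
  have hi2 := h.sq h2 hi
  obtain ⟨-, y, -, hy1, hyo, hiy⟩ := exists_inverted_of_not_mem_pCore hi2 hn
  have allinv : ∀ b, IsConj i b → ∀ w, Ty π₁ w → b * w * b⁻¹ = w⁻¹ → ∀ k, IsConj i k →
      k * w * k⁻¹ = w⁻¹ := by
    intro b hb w hw hbw k hk
    obtain ⟨g, rfl⟩ := isConj_iff.1 (hb.symm.trans hk)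
    obtain ⟨c, hc, e⟩ := trans_of_coprime (h.cop hw (hi.conj hb).1) g
    rw [← e]
    calc c * b * c⁻¹ * w * (c * b * c⁻¹)⁻¹ = c * (b * (c⁻¹ * w * c) * b⁻¹) * c⁻¹ := by group
      _ = c * w⁻¹ * c⁻¹ := by rw [hc.inv_left.eq, inv_mul_cancel_right, hbw]
      _ = w⁻¹ := by rw [hc.inv_right.eq]; simp
  have hy := RO.of_inv hy1 hyo hiy
  have hky := allinv i (IsConj.refl i) y (h.ty_ro h2 hy) hiy
  have tyw : ∀ b k, IsConj i b → IsConj i k → Ty π₁ (b * k) := by
    intro b k hb hk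
    have hbw := conj_mul_eq_inv (mul_self_conj hb hi2) (mul_self_conj hk hi2)
    have hreal : IsConj (b * k) (b * k)⁻¹ := isConj_iff.2 ⟨b, hbw⟩
    obtain ⟨u, o, hu, ho, huo, -, ⟨j, hj⟩, hoo⟩ := exists_p_part 2 (b * k)
    have hoo' : Odd (orderOf o) := Nat.odd_iff.2 (Nat.two_dvd_ne_zero.1 hoo)
    by_cases ho1 : o = 1
    · rw [ho1, mul_one] at huo
      have hwy : Commute (b * k) y := by
        have : b * k * y * (b * k)⁻¹ = y := by
          calc b * k * y * (b * k)⁻¹ = b * (k * y * k⁻¹) * b⁻¹ := by group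
            _ = (b * y * b⁻¹)⁻¹ := by rw [hky k hk]; group
            _ = y := by rw [hky b hb, inv_inv]
        exact mul_inv_eq_iff_eq_mul.1 this
      have hr : IsConj (b * k * y) (b * k * y)⁻¹ := isConj_iff.2 ⟨b, by
        calc b * (b * k * y) * b⁻¹ = (b * (b * k) * b⁻¹) * (b * y * b⁻¹) := by group
          _ = _ := by rw [hbw, hky b hb, hwy.eq, mul_inv_rev y]⟩
      have e := cent_mul_of_coprime hwy (by
        rw [← huo, hj]; exact (Nat.coprime_two_left.2 hyo).pow_left j)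
      have h3 : Ty π₁ (b * k * y) := h.ty_of_dvd hr h2 (hy.two_dvd.trans (by
        rw [cs, cs, e]; exact index_dvd_of_le inf_le_right))
      exact ⟨hreal, fun q hq hd => h3.2 q hq (hd.trans (by
        rw [cs, cs, e]; exact index_dvd_of_le inf_le_left))⟩
    · exact h.ty_of_dvd hreal h2 ((RO.of_inv ho1 hoo' (inv_of_mem_zpowers hbw ho)).two_dvd.trans
        (index_dvd_of_le (cent_le_cent_of_mem_zpowers ho)))
  have invw : ∀ b k, IsConj i b → IsConj i k → ∀ l, IsConj i l →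
      l * (b * k) * l⁻¹ = (b * k)⁻¹ := fun b k hb hk =>
    allinv b hb _ (tyw b k hb hk) (conj_mul_eq_inv (mul_self_conj hb hi2) (mul_self_conj hk hi2))
  have oddw : ∀ b k, IsConj i b → IsConj i k → Odd (orderOf (b * k)) := by
    intro b k hb hk
    refine (h.odd_of_ty h2 (hi.conj hb).1).of_dvd_nat (orderOf_dvd_cs (fun b' hb' => ?_))
    obtain ⟨g, rfl⟩ := isConj_iff.1 hb'
    obtain ⟨c, hc, e⟩ := trans_of_coprime (h.cop (tyw b k hb hk) (hi.conj hb).1) g
    rw [← e]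
    refine (hb.symm.trans hk).trans (isConj_iff.2 ⟨c, ?_⟩)
    calc c * k * c⁻¹ = c * (b * b) * k * c⁻¹ := by rw [mul_self_conj hb hi2]; group
      _ = c * b * c⁻¹ * (c * (b * k) * c⁻¹) := by group
      _ = _ := by rw [hc.eq]; group
  let S : Set G := {x | ∃ b k, IsConj i b ∧ IsConj i k ∧ x = b * k}
  have hcomm : ∀ x ∈ S, ∀ y ∈ S, x * y = y * x := by
    rintro _ ⟨b, k, hb, hk, rfl⟩ _ ⟨b', k', hb', hk', rfl⟩
    have : b * k * (b' * k') * (b * k)⁻¹ = b' * k' := by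
      calc b * k * (b' * k') * (b * k)⁻¹ = b * (k * (b' * k') * k⁻¹) * b⁻¹ := by group
        _ = (b * (b' * k') * b⁻¹)⁻¹ := by rw [invw b' k' hb' hk' k hk]; group
        _ = _ := by rw [invw b' k' hb' hk' b hb, inv_inv]
    exact mul_inv_eq_iff_eq_mul.1 this
  have hcl := fun l (hl : IsConj i l) => closure_inv (b := l) hcomm (by
    rintro _ ⟨b, k, hb, hk, rfl⟩; exact invw b k hb hk l hl) (by
    rintro _ ⟨b, k, hb, hk, rfl⟩; exact oddw b k hb hk)
  set O := closure S with hO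
  haveI hOn : O.Normal := ⟨fun n hn g => by
    have : O ≤ O.comap (MulAut.conj g).toMonoidHom := by
      refine (closure_le _).2 ?_
      rintro _ ⟨b, k, hb, hk, rfl⟩
      refine subset_closure ⟨g * b * g⁻¹, g * k * g⁻¹, hb.trans (isConj_iff.2 ⟨g, rfl⟩),
        hk.trans (isConj_iff.2 ⟨g, rfl⟩), ?_⟩
      change g * (b * k) * g⁻¹ = _
      group
    exact this hn⟩
  have hdec : ∀ g : G, ∃ o ∈ O, o⁻¹ * g ∈ centralizer ({i} : Set G) := by
    intro g
    have hk : IsConj i (g * i * g⁻¹) := isConj_iff.2 ⟨g, rfl⟩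
    obtain ⟨m, hm⟩ := exists_pow_conj_of_odd hi2 (mul_self_conj hk hi2) (oddw _ _ (IsConj.refl i) hk)
    have hS : i * (g * i * g⁻¹) ∈ S := ⟨_, _, IsConj.refl i, hk, rfl⟩
    refine ⟨_, pow_mem (Subgroup.subset_closure hS) m, mem_centralizer_singleton_iff.2 ?_⟩
    set o := (i * (g * i * g⁻¹)) ^ m
    calc o⁻¹ * g * i = o⁻¹ * (g * i * g⁻¹) * g := by group
      _ = _ := by rw [← hm]; group
  have hdvd : Nat.card O ∣ cs i := by
    rw [cs, ← ncard_isConj_eq_index]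
    refine card_dvd_of_closed _ _ (fun b hb o ho => ?_)
    have hb2 := mul_self_conj hb hi2
    have h3 := (hcl b hb).2 o ho
    refine IsConj.trans hb (isConj_of_odd hb2 ?_ (by rw [← mul_assoc, hb2, one_mul]; exact h3.2))
    calc b * o * (b * o) = (b * o * b⁻¹) * (b * b) * o := by group
      _ = 1 := by rw [h3.1, hb2]; simp
  constructor
  · haveI := h.solvable_cent h2 hi
    haveI : Group.IsSolvable (G ⧸ O) := Group.isSolvable_of_surjective
      (f := (QuotientGroup.mk' O).comp (centralizer ({i} : Set G)).subtype) (fun x => by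
        obtain ⟨g, rfl⟩ := QuotientGroup.mk_surjective x
        obtain ⟨o, ho, hc⟩ := hdec g
        refine ⟨⟨_, hc⟩, ?_⟩
        change ((o⁻¹ * g : G) : G ⧸ O) = g
        rw [QuotientGroup.mk_mul, (QuotientGroup.eq_one_iff _).2 (inv_mem ho), one_mul])
    haveI : Group.IsSolvable O := Group.isSolvable_of_comm (fun a b =>
      Subtype.ext ((hcl i (IsConj.refl i)).1 a a.2 b b.2))
    exact Group.isSolvable_of_ker_le_range O.subtype (QuotientGroup.mk' O) (by simp)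
  · intro p hp hp2 hd
    obtain ⟨P, hP, hN⟩ := h.exists_PN h2 hi
    haveI : (O ⊔ (P : Subgroup G)).Normal := by
      rw [← normalizer_eq_top_iff, eq_top_iff]
      intro g _
      obtain ⟨o, ho, hc⟩ := hdec g
      have e : g = o * (o⁻¹ * g) := by group
      rw [e]
      refine mul_mem (le_normalizer (mem_sup_left ho)) ?_
      exact normalizer_inf_normalizer_le_normalizer_sup O (P : Subgroup G)
        ⟨by rw [normalizer_eq_top]; trivial, hN hc⟩
    have h3 : p ∣ Nat.card (O ⊔ (P : Subgroup G) : Subgroup G) :=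
      hd.trans (card_dvd_of_le (closure_T2_le P le_sup_right))
    haveI := Fact.mk hp
    obtain ⟨x, hx⟩ := exists_prime_orderOf_dvd_card' p h3
    rw [← Subgroup.orderOf_coe] at hx
    obtain ⟨o, ho, t, ht, e⟩ := (mem_sup_of_normal_left (s := O) (t := (P : Subgroup G))).1 x.2
    have hxO : (x : G) ∈ O := by
      rw [← QuotientGroup.eq_one_iff]
      refine T2.eq_one_of_odd ?_ ((hx ▸ hp.odd_of_ne_two hp2).of_dvd_nat
        (orderOf_map_dvd (QuotientGroup.mk' O) _))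
      rw [← e, QuotientGroup.mk_mul, (QuotientGroup.eq_one_iff o).2 ho, one_mul]
      exact (T2.of_mem P.isPGroup' ht).map (QuotientGroup.mk' O)
    exact hi.1.2 p hp ((hx ▸ O.orderOf_dvd_natCard hxO).trans hdvd)

end Disc

end CfsgLib.RealCl
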