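import Cfsg.Agent.Lib.RealCl.GrA
import Cfsg.Agent.Lib.Coprime.Action
import Cfsg.Agent.Lib.Invol.Four
import Cfsg.Agent.Lib.Transfer.Residual

/-! Groups whose real class size graph is disconnected: the case `i ∈ O₂(G)` and the main theorem. -/

set_option autoImplicit false
set_option linter.style.haveILetI false
set_option linter.unusedSectionVars false
set_option linter.unusedVariables false

namespace CfsgLib.RealCl

open Subgroup Cfsg CfsgLib.Invol CfsgLib.Fgs CfsgLib.Core
open scoped Pointwise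

variable {G : Type*} [Group G]

/-- Real elements of odd order lift through a normal `2`-subgroup. -/
theorem lift_RO [Finite G] (O : Subgroup G) [O.Normal] (hOp : IsPGroup 2 O) {y : G ⧸ O}
    (hy : RO y) : ∃ x : G, RO x ∧ (x : G ⧸ O) = y := by
  obtain ⟨hy1, hyo, hy⟩ := hy
  obtain ⟨t, hy⟩ := isConj_iff.1 hy
  set f := QuotientGroup.mk' O with hf
  have hker : f.ker = O := QuotientGroup.ker_mk' O
  obtain ⟨x, rfl⟩ := QuotientGroup.mk'_surjective O y
  obtain ⟨g, rfl⟩ := QuotientGroup.mk'_surjective O t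
  obtain ⟨a, b, ha, -, ⟨k, hk⟩, hb, hab⟩ := CfsgLib.Transfer.exists_p_part (p := 2) x
  have hfa : f a = 1 := by
    refine T2.eq_one_of_odd (T2.map f ⟨k, hk⟩) (odd_of_mem_zpowers hyo ?_)
    obtain ⟨n, rfl⟩ := ha
    exact ⟨n, by simp [hf]⟩
  have hfb : f b = f x := by rw [hab, map_mul, hfa, one_mul]
  have hy' : f (g * b * g⁻¹) = (f b)⁻¹ := by
    rw [map_mul, map_mul, map_inv, hfb]
    exact hy
  have h3 : zpowers (g * b * g⁻¹) ≤ O ⊔ zpowers b := by
    apply zpowers_le_of_mem
    have h4 : g * b * g⁻¹ * b ∈ O := by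
      rw [← hker, MonoidHom.mem_ker, map_mul, hy', inv_mul_cancel]
    have := mul_mem (mem_sup_left h4 : _ ∈ O ⊔ zpowers b)
      (inv_mem (mem_sup_right (mem_zpowers b)))
    simpa using this
  obtain ⟨u, hu, hle⟩ := CfsgLib.Coprime.exists_conj_smul_le_of_le_sup
    le_normalizer_of_normal h3 (by
      rw [Nat.card_zpowers, ← MulAut.conj_apply, MulEquiv.orderOf_eq]
      exact (isPGroup_coprime_card hOp hb).symm)
    (Or.inl (CfsgLib.Coprime.isSolvable_zpowers _))
  have h5 := CfsgLib.Coprime.conj_smul_le_iff.1 hle _ (mem_zpowers _)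
  have hfu : f u = 1 := by rwa [← MonoidHom.mem_ker, hker]
  have h6 : u * (g * b * g⁻¹) * u⁻¹ * b ∈ O ⊓ zpowers b := by
    refine ⟨?_, mul_mem h5 (mem_zpowers b)⟩
    change _ ∈ O
    rw [← hker, MonoidHom.mem_ker, map_mul, map_mul, map_mul, hy', map_inv, hfu]
    simp
  rw [isPGroup_inf_eq_bot_of_coprime hOp (by rwa [Nat.card_zpowers]), mem_bot] at h6
  refine ⟨b, ⟨fun hb1 => hy1 ?_, Nat.coprime_two_right.1 hb, isConj_iff.2 ⟨u * g, ?_⟩⟩, hfb⟩
  · rw [← hfb, hb1, map_one]
  · rw [← mul_eq_one_iff_eq_inv, ← h6]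
    group

theorem T2.of_quot {O : Subgroup G} [O.Normal] (hOp : IsPGroup 2 O) {t : G}
    (h : T2 (t : G ⧸ O)) : T2 t := by
  obtain ⟨k, hk⟩ := h
  rw [← QuotientGroup.mk_pow, QuotientGroup.eq_one_iff] at hk
  obtain ⟨j, hj⟩ := T2.of_mem hOp hk
  exact ⟨k + j, by rw [pow_add, pow_mul, hj]⟩

namespace Disc

variable [Finite G] {π₁ π₂ : Set ℕ} (h : Disc G π₁ π₂) (h2 : 2 ∈ π₁)
include h h2

theorem V_facts {i : G} (hi : Good π₂ i) (hn : i ∈ pCore 2 G) :
    (∀ v ∈ closure {b | IsConj i b}, v ∈ pCore 2 G ∧ v * v = 1 ∧ ∀ o ∈ pCore 2 G, Commute o v) := by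
  intro v hv
  induction hv using closure_induction with
  | mem b hb =>
    obtain ⟨P, hP⟩ := h.exists_P h2 (hi.conj hb)
    obtain ⟨g, rfl⟩ := isConj_iff.1 hb
    exact ⟨(inferInstance : (pCore 2 G).Normal).conj_mem i hn g, h.sq h2 (hi.conj hb),
      fun o ho => mem_centralizer_singleton_iff.1 (hP (pCore_le_sylow P ho))⟩
  | one => simp
  | mul x y _ _ hx hy =>
    refine ⟨mul_mem hx.1 hy.1, ?_, fun o ho => (hx.2.2 o ho).mul_right (hy.2.2 o ho)⟩
    exact mul_mul_self_of_commute hx.2.1 hy.2.1 (hy.2.2 x hx.1)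
  | inv x _ hx =>
    rw [inv_eq_of_mul_eq_one_right hx.2.1]; exact hx

theorem good_of_mem {i e : G} (hi : Good π₂ i) (hn : i ∈ pCore 2 G)
    (he : e ∈ closure {b | IsConj i b}) (hz : e ∉ center G) : Good π₂ e := by
  have hV := h.V_facts h2 hi hn
  set V := closure {b | IsConj i b} with hVdef
  have hreal : ∀ v ∈ V, IsConj v v⁻¹ := fun v hv => by
    rw [inv_eq_of_mul_eq_one_right (hV v hv).2.1]
  have hVc : ∀ v ∈ V, ∀ w, IsConj v w → w ∈ V := by
    intro v hv w hw
    obtain ⟨g, rfl⟩ := isConj_iff.1 hw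
    have : V ≤ V.comap (MulAut.conj g).toMonoidHom := (closure_le _).2 (fun b hb =>
      Subgroup.subset_closure (IsConj.trans hb (isConj_iff.2 ⟨g, rfl⟩)))
    exact this hv
  have hiV : i ∈ V := Subgroup.subset_closure (IsConj.refl i)
  have he1 : 1 < cs e := by
    have h3 : cs e ≠ 1 := fun e' => hz (index_cent_eq_one_iff.1 e')
    have h4 : cs e ≠ 0 := index_ne_zero_of_finite
    omega
  refine ⟨(h.dich (hreal e he)).resolve_left (fun hty => ?_), he1⟩
  have hcm : Commute e i := (hV i hiV).2.2 e (hV e he).1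
  rcases h.dich (hreal _ (mul_mem hiV he)) with hd | hd
  · -- the class of `i e` has a size of the first type
    have hle : cs (e * i) ≤ cs e := cs_le_of_mul (e := i) (fun d' hd' => by
      have := isConj_mul (h.cop (hcm.eq ▸ hd) hi.1) hd' (IsConj.refl i)
      rwa [mul_assoc, h.sq h2 hi, mul_one] at this)
    let St : Subgroup G :=
      { carrier := {w | ∀ c, IsConj e c → IsConj e (c * w) ∧ IsConj e (c * w⁻¹)}
        mul_mem' := fun {a b} ha hb c hc => by
          rw [mul_inv_rev, ← mul_assoc, ← mul_assoc]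
          exact ⟨(hb _ (ha c hc).1).1, (ha _ (hb c hc).2).2⟩
        one_mem' := fun c hc => by simpa using hc
        inv_mem' := fun {a} ha c hc => by
          rw [inv_inv]; exact (ha c hc).symm }
    have key : ∀ v ∈ V, v ∈ St ∨ i * v ∈ St := by
      intro v hv
      induction hv using closure_induction with
      | mem b hb =>
        right
        have hbV : b ∈ V := Subgroup.subset_closure hb
        intro c hc
        have h3 := closed_of_le (h.cop hty hi.1) hle hb hc
        rw [inv_eq_of_mul_eq_one_right (hV b hbV).2.1] at h3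
        rw [inv_eq_of_mul_eq_one_right (hV _ (mul_mem hiV hbV)).2.1]
        exact ⟨h3, h3⟩
      | one => exact Or.inl (one_mem St)
      | mul x y hx hy h3 h4 =>
        have hxi : Commute x i := (hV i hiV).2.2 x (hV x hx).1
        rcases h3 with h3 | h3 <;> rcases h4 with h4 | h4
        · exact Or.inl (mul_mem h3 h4)
        · right
          have := mul_mem h3 h4
          rwa [← mul_assoc, hxi.eq, mul_assoc] at this
        · right
          have := mul_mem h3 h4
          rwa [mul_assoc] at this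
        · left
          have := mul_mem h3 h4
          have e' : i * x * (i * y) = x * y := by
            rw [← hxi.eq, mul_assoc, ← mul_assoc i, h.sq h2 hi, one_mul]
          rwa [e'] at this
      | inv x hx h3 => rwa [inv_eq_of_mul_eq_one_right (hV x hx).2.1]
    rcases key e he with h3 | h3
    · have := (h3 e (IsConj.refl e)).1
      rw [(hV e he).2.1, isConj_one_left] at this
      exact hz (this ▸ one_mem _)
    · have := (h3 e (IsConj.refl e)).1
      rw [← hcm.eq, ← mul_assoc, (hV e he).2.1, one_mul] at this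
      have h4 := h.cop (hty.conj this) hi.1
      rw [Nat.coprime_self] at h4
      exact absurd hi.2 (by omega)
  · have hle : cs (i * e) ≤ cs i := cs_le_of_mul (e := e) (fun d' hd' => by
      have := isConj_mul (h.cop hty hd).symm hd' (IsConj.refl e)
      rwa [mul_assoc, (hV e he).2.1, mul_one] at this)
    obtain ⟨e', hee, hne⟩ := exists_conj_ne he1
    have he' := hVc e he e' hee
    have h3 := orderOf_dvd_cs (w := e * e'⁻¹)
      (fun b' hb' => closed_of_le (h.cop hty hi.1).symm hle hee hb')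
    rw [orderOf_eq_two (fun e'' => hne (mul_inv_eq_one.1 e'').symm)
      (hV _ (mul_mem he (inv_mem he'))).2.1] at h3
    exact (Nat.not_even_iff_odd.2 (h.odd_of_ty h2 hi.1)) (even_iff_two_dvd.2 h3)

theorem exists_W {i y : G} (hi : Good π₂ i) (hn : i ∈ pCore 2 G) (hy : RO y) :
    ∃ W : Subgroup G, W.Normal ∧ W ≠ ⊥ ∧ (∀ w ∈ W, w ∈ pCore 2 G ∧ w * w = 1 ∧
      (∀ o ∈ pCore 2 G, Commute o w) ∧ (w ≠ 1 → Good π₂ w)) ∧
      ∀ S : Subgroup G, S.Normal → S ≤ W → S = ⊥ ∨ S = W := by
  have hV := h.V_facts h2 hi hn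
  set V := closure {b | IsConj i b} with hVdef
  have hVc : ∀ v ∈ V, ∀ g, g * v * g⁻¹ ∈ V := by
    intro v hv g
    have : V ≤ V.comap (MulAut.conj g).toMonoidHom := (closure_le _).2 (fun b hb =>
      Subgroup.subset_closure (IsConj.trans hb (isConj_iff.2 ⟨g, rfl⟩)))
    exact this hv
  have hcm : ∀ v ∈ V, ∀ w ∈ V, Commute v w := fun v hv w hw => (hV w hw).2.2 v (hV v hv).1
  let W₁ : Subgroup G :=
    { carrier := {u | ∃ v ∈ V, u = v * (y * v * y⁻¹)}
      mul_mem' := by
        rintro _ _ ⟨v, hv, rfl⟩ ⟨w, hw, rfl⟩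
        refine ⟨v * w, mul_mem hv hw, ?_⟩
        calc v * (y * v * y⁻¹) * (w * (y * w * y⁻¹))
            = v * ((y * v * y⁻¹) * w) * (y * w * y⁻¹) := by group
          _ = _ := by rw [(hcm _ (hVc v hv y) w hw).eq]; group
      one_mem' := ⟨1, one_mem V, by simp⟩
      inv_mem' := by
        rintro _ ⟨v, hv, rfl⟩
        exact ⟨v, hv, inv_eq_of_mul_eq_one_right (hV _ (mul_mem hv (hVc v hv y))).2.1⟩ }
  have hle : W₁ ≤ V := by
    rintro _ ⟨v, hv, rfl⟩
    exact mul_mem hv (hVc v hv y)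
  have hgood : ∀ u ∈ W₁, u ≠ 1 → Good π₂ u := by
    intro u hu hu1
    refine h.good_of_mem h2 hi hn (hle hu) (fun hz => hu1 ?_)
    obtain ⟨v, hv, e⟩ := hu
    have e1 : y * v * y⁻¹ = v * u := by rw [e, ← mul_assoc, (hV v hv).2.1, one_mul]
    have e2 : ∀ k : ℕ, y ^ k * v * (y ^ k)⁻¹ = v * u ^ k := by
      intro k
      induction k with
      | zero => simp
      | succ k ih =>
        have hc : y * u ^ k = u ^ k * y := mem_center_iff.1 (pow_mem hz k) y
        calc y ^ (k + 1) * v * (y ^ (k + 1))⁻¹ = y * (y ^ k * v * (y ^ k)⁻¹) * y⁻¹ := by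
              rw [pow_succ']; group
          _ = (y * v * y⁻¹) * (y * u ^ k) * y⁻¹ := by rw [ih]; group
          _ = _ := by rw [e1, hc, pow_succ']; group
    have e3 := e2 (orderOf y)
    rw [pow_orderOf_eq_one, one_mul, inv_one, mul_one, left_eq_mul] at e3
    exact (T2.of_mul_self (hV u (hle ⟨v, hv, e⟩)).2.1).eq_one_of_odd
      (hy.2.1.of_dvd_nat (orderOf_dvd_of_pow_eq_one e3))
  have hW₁n : W₁.Normal := ⟨fun u hu g => by
    by_cases hu1 : u = 1
    · rw [hu1]; simp
    obtain ⟨c, hc, e⟩ := trans_of_coprime (h.cop (h.ty_ro h2 hy) (hgood u hu hu1).1) g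
    obtain ⟨v, hv, rfl⟩ := hu
    refine ⟨c * v * c⁻¹, hVc v hv c, ?_⟩
    rw [← e]
    calc c * (v * (y * v * y⁻¹)) * c⁻¹ = c * v * c⁻¹ * ((c * y) * v * (c * y)⁻¹) := by group
      _ = _ := by rw [hc.eq]; group⟩
  have hiV : i ∈ V := Subgroup.subset_closure (IsConj.refl i)
  have hW₁ : W₁ ≠ ⊥ := by
    intro e
    have : i * (y * i * y⁻¹) ∈ W₁ := ⟨i, hiV, rfl⟩
    rw [e, mem_bot] at this
    refine h.not_comm h2 hi hy ?_
    have h3 : y * i * y⁻¹ = i := by
      rw [← inv_eq_of_mul_eq_one_right this, inv_eq_of_mul_eq_one_right (h.sq h2 hi)]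
    exact mul_inv_eq_iff_eq_mul.1 h3
  obtain ⟨W, ⟨hWn, hW0, hWle⟩, hmin⟩ := Set.exists_min_image
    {W : Subgroup G | W.Normal ∧ W ≠ ⊥ ∧ W ≤ W₁} (fun W => Nat.card W) (Set.toFinite _)
    ⟨W₁, hW₁n, hW₁, le_rfl⟩
  refine ⟨W, hWn, hW0, fun w hw => ⟨(hV w (hle (hWle hw))).1, (hV w (hle (hWle hw))).2.1,
    (hV w (hle (hWle hw))).2.2, hgood w (hWle hw)⟩, fun S hS hSW => ?_⟩
  by_cases hS0 : S = ⊥
  · exact Or.inl hS0
  · exact Or.inr (eq_of_le_of_card_ge hSW (hmin S ⟨hS, hS0, hSW.trans hWle⟩))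

/-- The case `i ∈ O₂(G)`. -/
theorem caseB {i y : G} (hi : Good π₂ i) (hn : i ∈ pCore 2 G) (hy : RO y) :
    Group.IsSolvable G ∧ ∀ p : ℕ, p.Prime → p ≠ 2 → p ∣ Nat.card (closure {t : G | T2 t}) →
      p ∈ π₂ := by
  obtain ⟨W, hWn, hW0, hW, hmin⟩ := h.exists_W h2 hi hn hy
  set O := pCore 2 G with hO
  have hOp : IsPGroup 2 O := isPGroup_pCore 2 G
  letI : CommGroup W := { (inferInstance : Group W) with
    mul_comm := fun a b => Subtype.ext ((hW b b.2).2.2.1 a (hW a a.2).1) }
  let ρ₀ : G →* Module.End ℤ (Additive W) :=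
    { toFun := fun g => (MonoidHom.toAdditive (MulAut.conjNormal g).toMonoidHom).toIntLinearMap
      map_one' := by ext; simp
      map_mul' := fun a b => by ext; simp [mul_assoc] }
  have hρ₀ : ∀ (g : G) (v : Additive W), ((ρ₀ g v).toMul : G) = g * (v.toMul : G) * g⁻¹ :=
    fun g v => rfl
  have hext : ∀ v w : Additive W, (v.toMul : G) = (w.toMul : G) → v = w :=
    fun v w e => Additive.toMul.injective (Subtype.ext e)
  let ρ : G ⧸ O →* Module.End ℤ (Additive W) := QuotientGroup.lift O ρ₀ (fun o ho => by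
    rw [MonoidHom.mem_ker]
    ext v
    have := ((hW _ v.toMul.2).2.2.1 o ho).eq
    change o * (v.toMul : G) * o⁻¹ = v.toMul
    rw [this]; simp)
  have hρ : ∀ (g : G) (v : Additive W), ((ρ (g : G ⧸ O) v).toMul : G) = g * (v.toMul : G) * g⁻¹ :=
    fun g v => rfl
  have hfix : ∀ (g : G) (v : Additive W), ρ (g : G ⧸ O) v = v ↔
      g ∈ centralizer ({(v.toMul : G)} : Set G) := by
    intro g v
    rw [mem_centralizer_singleton_iff, ← mul_inv_eq_iff_eq_mul, ← hρ]
    exact ⟨fun e => by rw [e], hext _ _⟩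
  have hgood : ∀ v : Additive W, v ≠ 0 → Good π₂ (v.toMul : G) := fun v hv =>
    (hW _ v.toMul.2).2.2.2 (fun e => hv (hext _ _ e))
  have hnt : ∃ v : Additive W, v ≠ 0 := by
    obtain ⟨⟨w, hw⟩, hw1⟩ := ne_bot_iff_exists_ne_one.1 hW0
    exact ⟨Additive.ofMul ⟨w, hw⟩, hw1⟩
  have hL : Lin ρ :=
    { two := fun v => hext _ _ (hW _ v.toMul.2).2.1
      nontriv := hnt
      syl := fun v hv => by
        obtain ⟨P, hP, hN⟩ := h.exists_PN h2 (hgood v hv)
        haveI : Fact (Nat.Prime 2) := ⟨Nat.prime_two⟩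
        refine ⟨P.mapSurjective (QuotientGroup.mk'_surjective O), ?_, fun g hg => ?_⟩
        · rintro _ ⟨g, hg, rfl⟩
          exact (hfix g v).2 (hP hg)
        · obtain ⟨g, rfl⟩ := QuotientGroup.mk_surjective g
          exact le_normalizer_map (QuotientGroup.mk' O) ⟨g, hN ((hfix g v).1 hg), rfl⟩
      faith := fun t ht hv => by
        obtain ⟨t, rfl⟩ := QuotientGroup.mk_surjective t
        rw [QuotientGroup.eq_one_iff, hO, pCore_eq_iInf_sylow, mem_iInf]
        intro Q
        obtain ⟨v, hv0⟩ := hnt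
        obtain ⟨P, hP, hN⟩ := h.exists_PN h2 (hgood v hv0)
        haveI : Fact (Nat.Prime 2) := ⟨Nat.prime_two⟩
        obtain ⟨g, rfl⟩ := MulAction.exists_smul_eq G P Q
        rw [Sylow.coe_subgroup_smul, mem_pointwise_smul_iff_inv_smul_mem]
        suffices hs : g⁻¹ * t * g⁻¹⁻¹ ∈ (P : Subgroup G) by simpa using hs
        refine ((T2.of_quot hOp ht).conj g⁻¹).mem_sylow P (hN ((hfix _ v).1 ?_))
        rw [QuotientGroup.mk_mul, QuotientGroup.mk_mul, act_mul, act_mul, hv, ← act_mul,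
          ← QuotientGroup.mk_mul]
        simp
      fpf := fun y hy v hv => by
        obtain ⟨x, hx, rfl⟩ := lift_RO O hOp hy
        by_contra hv0
        exact h.not_comm h2 (hgood v hv0) hx (mem_centralizer_singleton_iff.1 ((hfix x v).1 hv))
      oe := fun y hy g v => by
        obtain ⟨x, hx, rfl⟩ := lift_RO O hOp hy
        obtain ⟨g, rfl⟩ := QuotientGroup.mk_surjective g
        by_cases hv0 : v = 0
        · exact ⟨1, Commute.one_left _, by rw [hv0, map_zero, map_zero]⟩
        obtain ⟨c, hc, e⟩ := trans_of_coprime (h.cop (h.ty_ro h2 hx) (hgood v hv0).1) g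
        exact ⟨c, hc.map (QuotientGroup.mk' O), hext _ _ (by rw [hρ, hρ, e])⟩
      irr := fun S hS => by
        let S' : Subgroup G := (AddSubgroup.toSubgroup' S).map W.subtype
        have hS' : S'.Normal := ⟨by
          rintro _ ⟨w, hw, rfl⟩ g
          exact ⟨(ρ (g : G ⧸ O) (Additive.ofMul w)).toMul, hS (g : G ⧸ O) (Additive.ofMul w) hw, rfl⟩⟩
        rcases hmin S' hS' (map_subtype_le _) with e | e
        · left
          rw [eq_bot_iff]
          intro v hv
          have : (v.toMul : G) ∈ S' := ⟨v.toMul, hv, rfl⟩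
          rw [e, mem_bot] at this
          exact hext _ _ this
        · right
          rw [eq_top_iff]
          intro v _
          have : (v.toMul : G) ∈ S' := by rw [e]; exact v.toMul.2
          obtain ⟨w, hw, e'⟩ := this
          have : v = Additive.ofMul w := hext _ _ e'.symm
          rw [this]; exact hw }
  haveI : Fact (Nat.Prime 2) := ⟨Nat.prime_two⟩
  obtain ⟨z, hz⟩ : ∃ z : G ⧸ O, orderOf z = 2 := by
    refine exists_prime_orderOf_dvd_card' 2 ?_
    by_contra hd
    obtain ⟨P⟩ : Nonempty (Sylow 2 G) := inferInstance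
    have : (P : Subgroup G) = O := by
      refine le_antisymm ?_ (pCore_le_sylow P)
      exact le_of_coprime_card_index (isPGroup_coprime_card P.isPGroup'
        ((Nat.Prime.coprime_iff_not_dvd Nat.prime_two).2 hd).symm)
    exact (Cfsg.Agent.S3861.result P).2 (this ▸ inferInstance) y hy.1 hy.2.1 hy.2.2
  have hz2 := mul_self_of_orderOf_two hz
  have hz1 := ne_one_of_orderOf_two hz
  constructor
  · haveI := hL.solvable hz2 hz1
    haveI := hOp.isNilpotent
    exact Group.isSolvable_of_ker_le_range O.subtype (QuotientGroup.mk' O) (by simp)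
  · intro p hp hp2 hd
    obtain ⟨v, hv0⟩ := hnt
    haveI := Fact.mk hp
    obtain ⟨x, hx⟩ := exists_prime_orderOf_dvd_card' p hd
    rw [← Subgroup.orderOf_coe] at hx
    have hxK : ((x : G) : G ⧸ O) ∈ closure {t : G ⧸ O | T2 t} := by
      have : closure {t : G | T2 t} ≤ (closure {t : G ⧸ O | T2 t}).comap (QuotientGroup.mk' O) :=
        (closure_le _).2 (fun t ht => Subgroup.subset_closure (T2.map _ ht))
      exact this x.2
    have hxo : orderOf ((x : G) : G ⧸ O) = p := by
      refine orderOf_eq_prime (by rw [← QuotientGroup.mk_pow, ← hx, pow_orderOf_eq_one]; rfl)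
        (fun e => ?_)
      have := (T2.of_mem hOp ((QuotientGroup.eq_one_iff _).1 e)).eq_one_of_odd
        (hx ▸ hp.odd_of_ne_two hp2)
      rw [this, orderOf_one] at hx
      exact hp.one_lt.ne hx
    have h3 := hL.prime_dvd hz2 hz1 hp hp2 (hxo ▸ orderOf_dvd_natCard _ hxK) hv0
    rw [← index_comap_of_surjective _ (QuotientGroup.mk'_surjective O)] at h3
    have e : (St ρ v).comap (QuotientGroup.mk' O) = centralizer ({(v.toMul : G)} : Set G) := by
      ext g; exact hfix g v
    rw [e] at h3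
    exact (hgood v hv0).1.2 p hp h3

theorem main' {y : G} (hy : RO y) :
    Group.IsSolvable G ∧ ∀ p : ℕ, p.Prime → p ≠ 2 → p ∣ Nat.card (closure {t : G | T2 t}) →
      p ∈ π₂ := by
  obtain ⟨i, hi⟩ := h.exists_good h2
  by_cases hn : i ∈ pCore 2 G
  · exact h.caseB h2 hi hn hy
  · exact h.caseA h2 hi hn

end Disc

end CfsgLib.RealCl
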