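import Cfsg.Agent.Lib.RealCl.GrB

/-! Tong-Viet's theorems on groups whose real class size graph is disconnected. -/

set_option autoImplicit false
set_option linter.style.haveILetI false
set_option linter.unusedSectionVars false
set_option linter.unusedVariables false

namespace CfsgLib.RealCl

open Subgroup Cfsg CfsgLib.Invol CfsgLib.Fgs CfsgLib.Core

variable {G : Type*} [Group G]

/-- The set of real class sizes. -/
def RS (G : Type*) [Group G] : Set ℕ :=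
  {n : ℕ | ∃ x : G, IsConj x x⁻¹ ∧ (Subgroup.centralizer ({x} : Set G)).index = n}

theorem disc_of {π₁ π₂ : Set ℕ} (h₁ : π₁.Nonempty) (h₂ : π₂.Nonempty)
    (hcover : ∀ q : ℕ, q.Prime → (∃ n ∈ RS G, q ∣ n) → q ∈ π₁ ∨ q ∈ π₂)
    (hsub : ∀ q ∈ π₁ ∪ π₂, q.Prime ∧ ∃ n ∈ RS G, q ∣ n) (hdisj : Disjoint π₁ π₂)
    (hnoedge : ∀ a ∈ π₁, ∀ b ∈ π₂, ∀ n ∈ RS G, ¬ (a ∣ n ∧ b ∣ n)) : Disc G π₁ π₂ where
  cover := fun x hx q hq hd => hcover q hq ⟨_, ⟨x, hx, rfl⟩, hd⟩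
  disj := hdisj
  noedge := fun x hx a ha b hb => hnoedge a ha b hb _ ⟨x, hx, rfl⟩
  ex1 := by
    obtain ⟨q, hq⟩ := h₁
    obtain ⟨hp, _, ⟨x, hx, rfl⟩, hd⟩ := hsub q (Or.inl hq)
    exact ⟨x, hx, q, hq, hp, hd⟩
  ex2 := by
    obtain ⟨q, hq⟩ := h₂
    obtain ⟨hp, _, ⟨x, hx, rfl⟩, hd⟩ := hsub q (Or.inr hq)
    exact ⟨x, hx, q, hq, hp, hd⟩

theorem exists_RO [Finite G] (P : Sylow 2 G) (hP : ¬ (P : Subgroup G).Normal) : ∃ y : G, RO y := by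
  by_contra hn
  exact hP ((Cfsg.Agent.S3861.result P).1 (fun x h1 h2 h3 => hn ⟨x, h1, h2, h3⟩))

theorem Disc.wlog [Finite G] {π₁ π₂ : Set ℕ} (h : Disc G π₁ π₂) :
    ∃ σ₁ σ₂, Disc G σ₁ σ₂ ∧ 2 ∈ σ₁ := by
  obtain ⟨x, hx, hd⟩ := h.exists_even
  rcases h.cover x hx 2 Nat.prime_two hd with h2 | h2
  · exact ⟨_, _, h, h2⟩
  · exact ⟨_, _, h.symm, h2⟩

theorem Disc.solvable [Finite G] {π₁ π₂ : Set ℕ} (h : Disc G π₁ π₂) : Group.IsSolvable G := by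
  obtain ⟨σ₁, σ₂, h, h2⟩ := h.wlog
  obtain ⟨P⟩ : Nonempty (Sylow 2 G) := inferInstance
  by_cases hP : (P : Subgroup G).Normal
  · exact solvable_of_normal_sylow P
  · obtain ⟨y, hy⟩ := exists_RO P hP
    exact (h.main' h2 hy).1

theorem set_T2 [Finite G] : {g : G | ∃ k : ℕ, orderOf g = 2 ^ k} = {t : G | T2 t} := by
  ext g
  constructor
  · rintro ⟨k, hk⟩
    exact ⟨k, by rw [← hk, pow_orderOf_eq_one]⟩
  · rintro ⟨k, hk⟩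
    obtain ⟨j, -, hj⟩ := (Nat.dvd_prime_pow Nat.prime_two).1 (orderOf_dvd_of_pow_eq_one hk)
    exact ⟨j, hj⟩

theorem Disc.structure [Finite G] {π₁ π₂ : Set ℕ} (h : Disc G π₁ π₂) (K : Subgroup G)
    (hK : K = closure {g : G | ∃ k : ℕ, orderOf g = 2 ^ k}) :
    (∀ P : Sylow 2 G, (P : Subgroup G).Normal) ∨
      ((∃ π₁ π₂ : Set ℕ, π₁.Nonempty ∧ π₂.Nonempty ∧ Disjoint π₁ π₂ ∧
        (∀ q ∈ π₁ ∪ π₂, q.Prime ∧ ∃ n ∈ RS K, q ∣ n) ∧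
        (∀ q : ℕ, q.Prime → (∃ n ∈ RS K, q ∣ n) → q ∈ π₁ ∨ q ∈ π₂) ∧
        ∀ a ∈ π₁, ∀ b ∈ π₂, ∀ n ∈ RS K, ¬ (a ∣ n ∧ b ∣ n)) ∧
      ∀ n ∈ RS K, Odd n ∨ ∃ j : ℕ, n = 2 ^ j) := by
  obtain ⟨σ₁, σ₂, h, h2⟩ := h.wlog
  by_cases hP : ∀ P : Sylow 2 G, (P : Subgroup G).Normal
  · exact Or.inl hP
  right
  push Not at hP
  obtain ⟨P, hP⟩ := hP
  obtain ⟨y, hy⟩ := exists_RO P hP
  rw [set_T2] at hK
  have hprim := (h.main' h2 hy).2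
  rw [← hK] at hprim
  have hT : ∀ t : G, T2 t → t ∈ K := fun t ht => hK ▸ Subgroup.subset_closure ht
  haveI hKn : K.Normal := ⟨fun n hn g => by
    have : closure {t : G | T2 t} ≤ K.comap (MulAut.conj g).toMonoidHom :=
      (closure_le _).2 (fun t ht => hT _ (T2.conj ht g))
    exact this (hK ▸ hn)⟩
  have hall : ∀ n ∈ RS K, Odd n ∨ ∃ j : ℕ, n = 2 ^ j := by
    rintro _ ⟨x, hx, rfl⟩
    have hx' : IsConj (x : G) (x : G)⁻¹ := by simpa using K.subtype.map_isConj hx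
    have hd := index_cent_normal_dvd K x
    rcases h.dich hx' with h3 | h3
    · right
      refine ⟨_, Nat.eq_prime_pow_of_unique_prime_dvd index_ne_zero_of_finite (fun {d} hd1 hd2 => ?_)⟩
      by_contra hne
      exact Set.disjoint_left.1 h.disj (h3.2 d hd1 (hd2.trans hd))
        (hprim d hd1 hne (hd2.trans (index_dvd_card _)))
    · exact Or.inl ((h.odd_of_ty h2 h3).of_dvd_nat hd)
  have hodd : Odd K.index := Nat.odd_iff.2 (Nat.two_dvd_ne_zero.1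
    (not_dvd_index_of_sylow_le P (fun t ht => hT t (T2.of_mem P.isPGroup' ht))))
  obtain ⟨hyK, hyr⟩ := (Cfsg.Agent.S3863.result y hy.2.2).2.2 K hodd
  have hy' : RO (⟨y, hyK⟩ : K) :=
    ⟨fun e => hy.1 (congrArg Subtype.val e), by rw [← Subgroup.orderOf_coe]; exact hy.2.1, hyr⟩
  obtain ⟨i, hi⟩ := h.exists_good h2
  have hi2 := h.sq h2 hi
  have hiK := hT i (T2.of_mul_self hi2)
  have hir : IsConj (⟨i, hiK⟩ : K) (⟨i, hiK⟩ : K)⁻¹ := by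
    rw [inv_eq_of_mul_eq_one_right (a := (⟨i, hiK⟩ : K)) (b := ⟨i, hiK⟩) (Subtype.ext hi2)]
  have hi1 : cs (⟨i, hiK⟩ : K) ≠ 1 := by
    intro e
    have h3 := mem_center_iff.1 (index_cent_eq_one_iff.1 e) ⟨y, hyK⟩
    exact h.not_comm h2 hi hy (congrArg Subtype.val h3)
  obtain ⟨q, hq, hqd⟩ := Nat.exists_prime_and_dvd hi1
  have hio : Odd (cs (⟨i, hiK⟩ : K)) :=
    (h.odd_of_ty h2 hi.1).of_dvd_nat (index_cent_normal_dvd K ⟨i, hiK⟩)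
  refine ⟨⟨{2}, {q | q.Prime ∧ q ≠ 2 ∧ ∃ n ∈ RS K, q ∣ n}, ⟨2, rfl⟩, ⟨q, hq, ?_, _, ⟨_, hir, rfl⟩, hqd⟩,
    ?_, ?_, ?_, ?_⟩, hall⟩
  · rintro rfl
    exact (Nat.not_even_iff_odd.2 hio) (even_iff_two_dvd.2 hqd)
  · rw [Set.disjoint_left]
    rintro _ rfl h3
    exact h3.2.1 rfl
  · rintro r (rfl | hr)
    · exact ⟨Nat.prime_two, _, ⟨_, hyr, rfl⟩, hy'.two_dvd⟩
    · exact ⟨hr.1, hr.2.2⟩
  · intro r hr hex
    by_cases e : r = 2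
    · exact Or.inl e
    · exact Or.inr ⟨hr, e, hex⟩
  · rintro _ rfl b hb n hn ⟨h3, h4⟩
    rcases hall n hn with h5 | ⟨j, rfl⟩
    · exact (Nat.not_even_iff_odd.2 h5) (even_iff_two_dvd.2 h3)
    · exact hb.2.1 ((Nat.prime_dvd_prime_iff_eq hb.1 Nat.prime_two).1 (hb.1.dvd_of_dvd_pow h4))

end CfsgLib.RealCl
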